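import Groth.Agent.IntMultLib.Components

/-!
# Additive functions on coherent modules of a Noetherian scheme
-/

set_option autoImplicit false
set_option linter.style.haveILetI false
universe u

open CategoryTheory CategoryTheory.Limits AlgebraicGeometry TopologicalSpace Opposite
open DevissLib IntMultLib

noncomputable section

namespace K0TwistLib

variable {X : Scheme.{u}} [IsNoetherian X]

/-- An additive function vanishing below dimension `d` is the sum over the `d`-dimensional points. -/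
theorem additive_eq_sum {A : Type*} [AddCommGroup A] (Φ : X.Modules → A)
    (hiso : ∀ M N : X.Modules, (M ≅ N) → Φ M = Φ N)
    (hadd : ∀ S : ShortComplex X.Modules, S.ShortExact → Coh.IsCoh S.X₁ → Coh.IsCoh S.X₂ →
      Coh.IsCoh S.X₃ → Φ S.X₂ = Φ S.X₁ + Φ S.X₃)
    {d : ℕ} (hlow : ∀ M : X.Modules, Coh.IsCoh M →
      topologicalKrullDim (CohB1.support M) < (d : ℕ) → Φ M = 0)
    {Y : Set X} (hY : IsClosed Y) (hne : Y.Nonempty) (hd : topologicalKrullDim Y ≤ (d : ℕ))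
    (M : X.Modules) (hM : Coh.IsCoh M) (hMY : CohB1.support M ⊆ Y) :
    ∃ T : Finset X, (∀ ξ, ξ ∈ T ↔ ξ ∈ Y ∧ topologicalKrullDim (closure ({ξ} : Set X)) = (d : WithBot ℕ∞)) ∧
      (∀ ξ ∈ T, len M ξ ≠ ⊤) ∧ Φ M = ∑ ξ ∈ T, (len M ξ).toNat • Φ (ClSub.quotMod (ptIdeal ξ)) := by
  classical
  let T := (finite_dim_points hY hd).toFinset
  have hT : ∀ ξ, ξ ∈ T ↔ ξ ∈ Y ∧ topologicalKrullDim (closure ({ξ} : Set X)) = (d : WithBot ℕ∞) :=
    fun ξ => Set.Finite.mem_toFinset _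
  refine ⟨T, hT, ?_⟩
  let Ψ : X.Modules → A := fun N => Φ N - ∑ ξ ∈ T, (len N ξ).toNat • Φ (ClSub.quotMod (ptIdeal ξ))
  let P : X.Modules → Prop := fun N => (∀ ξ ∈ T, len N ξ ≠ ⊤) ∧ Ψ N = 0
  have hP : ∀ M N : X.Modules, Nonempty (M ≅ N) → P M → P N := fun M N ⟨e⟩ ⟨h1, h2⟩ => by
    refine ⟨fun ξ hξ => len_congr e ξ ▸ h1 ξ hξ, ?_⟩
    simp only [Ψ] at h2 ⊢
    simpa only [← hiso M N e, ← len_congr e] using h2
  suffices P M from ⟨this.1, sub_eq_zero.mp this.2⟩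
  refine devissage P hP Y (fun S hS h₁ h₂ h₃ _ => ?_) hne (fun η hη _ => ?_) hY M hM hMY
  · have hlen := fun ξ => len_add hS ξ
    have key : (∀ ξ ∈ T, len S.X₁ ξ ≠ ⊤) → (∀ ξ ∈ T, len S.X₃ ξ ≠ ⊤) → Ψ S.X₂ = Ψ S.X₁ + Ψ S.X₃ := by
      intro a c
      simp only [Ψ]
      rw [hadd S hS h₁ h₂ h₃, Finset.sum_congr rfl (g := fun ξ =>
        (len S.X₁ ξ).toNat • Φ (ClSub.quotMod (ptIdeal ξ)) +
        (len S.X₃ ξ).toNat • Φ (ClSub.quotMod (ptIdeal ξ))) fun ξ hξ => by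
          rw [hlen ξ, ENat.toNat_add (a ξ hξ) (c ξ hξ), add_smul],
        Finset.sum_add_distrib]
      abel
    refine ⟨fun ⟨a, a'⟩ ⟨b, b'⟩ => ?_, fun ⟨a, a'⟩ ⟨c, c'⟩ => ⟨fun ξ hξ => ?_, ?_⟩,
      fun ⟨b, b'⟩ ⟨c, c'⟩ => ?_⟩
    · have f3 : ∀ ξ ∈ T, len S.X₃ ξ ≠ ⊤ := fun ξ hξ =>
        ne_top_of_le_ne_top (b ξ hξ) (hlen ξ ▸ le_add_self)
      exact ⟨f3, by simpa [b', a'] using (key a f3).symm⟩
    · rw [hlen ξ]
      exact WithTop.add_ne_top.mpr ⟨a ξ hξ, c ξ hξ⟩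
    · rw [key a c, a', c', add_zero]
    · have f1 : ∀ ξ ∈ T, len S.X₁ ξ ≠ ⊤ := fun ξ hξ =>
        ne_top_of_le_ne_top (b ξ hξ) (hlen ξ ▸ le_self_add)
      exact ⟨f1, by simpa [b', c'] using (key f1 c).symm⟩
  · obtain ⟨hG, hGs, he⟩ := generator η
    refine ⟨_, hG, hGs, he, ?_⟩
    have h0 : ∀ ξ ∈ T, ξ ≠ η → len (ClSub.quotMod (ptIdeal η)) ξ = 0 := fun ξ hξ hne' => by
      refine len_eq_zero fun h => hne' ?_
      rw [hGs] at h
      exact (eq_of_specializes_of_dim hY hd ((hT ξ).mp hξ).2 hη (specializes_iff_mem_closure.mpr h)).symm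
    refine ⟨fun ξ hξ => ?_, ?_⟩
    · by_cases h : ξ = η
      · subst h; rw [len_generator]; exact ENat.one_ne_top
      · rw [h0 ξ hξ h]; exact ENat.zero_ne_top
    · by_cases hηT : η ∈ T
      · simp only [Ψ]
        rw [Finset.sum_eq_single η (fun ξ hξ hne' => by rw [h0 ξ hξ hne']; simp) (fun h => absurd hηT h),
          len_generator]
        simp
      · simp only [Ψ]
        rw [Finset.sum_eq_zero fun ξ hξ => by rw [h0 ξ hξ (fun h => hηT (h ▸ hξ))]; simp, sub_zero]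
        refine hlow _ hG ?_
        rw [hGs]
        exact lt_of_le_of_ne (dim_closure_le hY hη hd) fun h => hηT ((hT η).mpr ⟨hη, h⟩)

end K0TwistLib

end
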